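import Groth.Agent.Depth.CM
import Groth.Agent.InvQLib.DepthChange
import Groth.Agent.EGA4Lib.StrictlyCatenaryEFT
import Mathlib.RingTheory.Localization.Module
import Mathlib.Algebra.Module.LocalizedModule.IsLocalization

/-!
# Depth of direct summands of algebras over the base ring
-/

set_option autoImplicit false

universe u

namespace Groth.Agent.ConormalDepth

open Groth.Agent.Depth RingTheory.Sequence
open scoped Pointwise

variable {A : Type u} [CommRing A] {S : Type u} [CommRing S] [IsNoetherianRing S] [Algebra A S]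

/-- depth descends along a ring map, with no finiteness over the source -/
theorem le_idealDepth_of_map (I : Ideal A) (n : ℕ) :
    ∀ (N : Type u) [AddCommGroup N] [Module A N] [Module S N] [IsScalarTower A S N] [Module.Finite S N],
      (n : ℕ∞) ≤ LocCoh.idealDepth (I.map (algebraMap A S)) N → (n : ℕ∞) ≤ LocCoh.idealDepth I N := by
  induction n with
  | zero => intros; simp
  | succ n ih0 =>
    intro N _ _ _ _ _ h
    by_cases hIN : I • (⊤ : Submodule A N) = ⊤
    · rw [idealDepth_eq_top_of_smul_top_eq_top hIN]; exact le_top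
    have h1 : 1 ≤ LocCoh.idealDepth (I.map (algebraMap A S)) N := le_trans (by exact_mod_cast Nat.succ_pos n) h
    obtain ⟨s, hs, hsreg⟩ := exists_isSMulRegular_of_one_le_idealDepth h1
    obtain ⟨x, hx, hxreg⟩ : ∃ x ∈ I, IsSMulRegular N (algebraMap A S x) := by
      have hfin := (associatedPrimes.finite S N)
      have hnot : ∀ P ∈ associatedPrimes S N, ¬ I ≤ P.comap (algebraMap A S) := fun P hP hle => by
        have hs' : s ∈ P := (Ideal.map_le_iff_le_comap.2 hle) hs
        have : s ∈ {r : S | IsSMulRegular N r}ᶜ := biUnion_associatedPrimes_eq_compl_regular (R := S) (M := N) ▸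
          Set.mem_biUnion hP hs'
        exact this hsreg
      by_contra hcon
      have hsub : (I : Set A) ⊆ ⋃ P ∈ hfin.toFinset, ((P.comap (algebraMap A S) : Ideal A) : Set A) := by
        intro x hx
        have hx' : algebraMap A S x ∈ ⋃ P ∈ associatedPrimes S N, (P : Set S) := by
          rw [biUnion_associatedPrimes_eq_compl_regular]
          exact fun h => hcon ⟨x, hx, h⟩
        obtain ⟨P, hP, hxP⟩ := Set.mem_iUnion₂.1 hx'
        exact Set.mem_iUnion₂.2 ⟨P, hfin.mem_toFinset.2 hP, hxP⟩
      obtain ⟨P, hP, hle⟩ := (Ideal.subset_union_prime ⊤ ⊤ fun P hP _ _ => by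
        have := (hfin.mem_toFinset.1 hP).isPrime
        exact Ideal.comap_isPrime _ _).1 hsub
      exact hnot P (hfin.mem_toFinset.1 hP) hle
    have hx' : algebraMap A S x ∈ I.map (algebraMap A S) := Ideal.mem_map_of_mem _ hx
    have hxreg' : IsSMulRegular N x := fun a b hab => hxreg (by
      simpa [algebraMap_smul] using hab)
    have ih := ih0 (QuotSMulTop (algebraMap A S x) N)
      ((le_idealDepth_quotSMulTop_iff hx' hxreg n).2 h)
    let e : QuotSMulTop x N ≃ₗ[A] QuotSMulTop (algebraMap A S x) N :=
      (Submodule.quotEquivOfEq _ _ (by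
        ext y
        simp [Submodule.mem_smul_pointwise_iff_exists, algebraMap_smul])).trans
        (Submodule.Quotient.restrictScalarsEquiv A _)
    rw [← idealDepth_congr e] at ih
    -- depth of `N` from depth of `N / x N`
    obtain ⟨rs, hrs, hlen, hmem⟩ : ∃ rs : List A, IsWeaklyRegular (QuotSMulTop x N) rs ∧ n ≤ rs.length ∧
        ∀ r ∈ rs, r ∈ I := by
      by_cases hq : I • (⊤ : Submodule A (QuotSMulTop x N)) = ⊤
      · refine absurd ?_ hIN
        rw [eq_top_iff]
        intro y _
        have hy : (Submodule.Quotient.mk y : QuotSMulTop x N) ∈ I • (⊤ : Submodule A (QuotSMulTop x N)) := by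
          rw [hq]; exact Submodule.mem_top
        rw [← LinearMap.range_eq_top.2 (Submodule.mkQ_surjective (x • (⊤ : Submodule A N))),
          LinearMap.range_eq_map, ← Submodule.map_smul''] at hy
        obtain ⟨z, hz, hzy⟩ := hy
        have h2 : y - z ∈ x • (⊤ : Submodule A N) := (Submodule.Quotient.eq _).1 hzy.symm
        obtain ⟨w, -, hw⟩ := (Submodule.mem_smul_pointwise_iff_exists _ _ _).1 h2
        rw [show y = z + x • w by rw [hw]; abel]
        exact add_mem hz (Submodule.smul_mem_smul hx Submodule.mem_top)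
      · obtain ⟨rs, h1, h2, h3⟩ := exists_isWeaklyRegular_of_le_idealDepth hq ih
        exact ⟨rs, h1, h3.ge, h2⟩
    refine le_trans ?_ (le_idealDepth_of_isWeaklyRegular
      ((isWeaklyRegular_cons_iff _ x rs).2 ⟨hxreg', hrs⟩) (List.forall_mem_cons.2 ⟨hx, hmem⟩))
    exact_mod_cast Nat.succ_le_succ hlen

/-- The depth of a direct summand `N` of `G` at `p`, from the depths of `G` at the primes over `p`. -/
theorem le_depth_summand (R G : Type u) [CommRing R] [CommRing G] [IsNoetherianRing G] [Algebra R G]
    (r : ℕ) (hS : LocCoh.HasSk r G G) (p : Ideal R) [p.IsPrime] (d : ℕ) (hdr : d ≤ r)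
    (hd : ∀ Q : Ideal G, Q.IsPrime → Q.comap (algebraMap R G) = p → (d : ℕ∞) ≤ Q.height)
    (N : Type u) [AddCommGroup N] [Module R N] (i : N →ₗ[R] G) (π : G →ₗ[R] N) (h : π ∘ₗ i = LinearMap.id) :
    (d : ℕ∞) ≤ LocCoh.depth (Localization.AtPrime p) (LocalizedModule p.primeCompl N) := by
  let T := p.primeCompl
  let G' := Localization (Algebra.algebraMapSubmonoid G T)
  have : IsNoetherianRing G' := IsLocalization.isNoetherianRing (Algebra.algebraMapSubmonoid G T) G' inferInstance
  let f : G →ₗ[R] G' := (IsScalarTower.toAlgHom R G G').toLinearMap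
  let i' : LocalizedModule T N →ₗ[Localization.AtPrime p] G' :=
    IsLocalizedModule.mapExtendScalars T (LocalizedModule.mkLinearMap T N) f (Localization T) i
  let π' : G' →ₗ[Localization.AtPrime p] LocalizedModule T N :=
    IsLocalizedModule.mapExtendScalars T f (LocalizedModule.mkLinearMap T N) (Localization T) π
  have h' : π' ∘ₗ i' = LinearMap.id := by
    apply LinearMap.restrictScalars_injective R
    apply IsLocalizedModule.linearMap_ext T (LocalizedModule.mkLinearMap T N) (LocalizedModule.mkLinearMap T N)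
    ext x
    have hx : π (i x) = x := LinearMap.congr_fun h x
    simp only [i', π', LinearMap.coe_comp, Function.comp_apply, LinearMap.coe_restrictScalars,
      IsLocalizedModule.mapExtendScalars_apply_apply, IsLocalizedModule.map_apply, hx, LinearMap.id_coe, id_eq]
  rw [depth_eq_idealDepth]
  refine le_trans ?_ (InvQLib.idealDepth_le_of_retract _ i' π' h')
  refine le_idealDepth_of_map (S := G') (IsLocalRing.maximalIdeal (Localization.AtPrime p)) d G' ?_
  rw [idealDepth_eq_iInf_depth]
  refine le_iInf₂ fun Q hQ => ?_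
  let Q₀ : Ideal G := Q.asIdeal.comap (algebraMap G G')
  have hQ₀ : Q₀.comap (algebraMap R G) = p := by
    refine le_antisymm (fun x hx => ?_) fun x hx => ?_
    · by_contra hxp
      exact Q.2.ne_top (Ideal.eq_top_of_isUnit_mem _ hx
        (IsLocalization.map_units G' (⟨_, Algebra.mem_algebraMapSubmonoid_of_mem ⟨x, hxp⟩⟩ :
          Algebra.algebraMapSubmonoid G T)))
    · have hm : algebraMap (Localization.AtPrime p) G' (algebraMap R _ x) ∈ Q.asIdeal :=
        hQ (Ideal.mem_map_of_mem _ (by
          rw [← Localization.AtPrime.map_eq_maximalIdeal]; exact Ideal.mem_map_of_mem _ hx))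
      rw [← IsScalarTower.algebraMap_apply R (Localization.AtPrime p) G',
        IsScalarTower.algebraMap_apply R G G'] at hm
      exact hm
  have hht : (d : ℕ∞) ≤ Q.asIdeal.height := by
    rw [← IsLocalization.height_under (Algebra.algebraMapSubmonoid G T) Q.asIdeal]
    exact hd Q₀ (Ideal.comap_isPrime _ _) hQ₀
  have hS' := EGA4Lib.hasSk_of_isLocalization r G' (Algebra.algebraMapSubmonoid G T) hS Q.asIdeal
  obtain ⟨-, a2⟩ := EGA4Lib.depth_supportDim_congr (L := Localization.AtPrime Q.asIdeal)
    (Depth.localizedModuleSelfEquiv Q.asIdeal.primeCompl)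
  rw [a2, Module.supportDim_self_eq_ringKrullDim,
    IsLocalization.AtPrime.ringKrullDim_eq_height Q.asIdeal] at hS'
  have h2 : ((d : ℕ∞) : WithBot ℕ∞) ≤ min ((r : ℕ∞) : WithBot ℕ∞) (Q.asIdeal.height : WithBot ℕ∞) :=
    le_min (WithBot.coe_le_coe.2 (by exact_mod_cast hdr)) (WithBot.coe_le_coe.2 hht)
  exact WithBot.coe_le_coe.1 (h2.trans (le_trans (by simp) hS'))

end Groth.Agent.ConormalDepth
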