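import Groth.Agent.S0555
import Groth.Agent.CycLib.DimFormula
import Mathlib.RingTheory.ReesAlgebra
import Mathlib.RingTheory.Ideal.KrullsHeightTheorem

/-!
# Heights in the associated graded ring over a universally catenary domain
-/

set_option autoImplicit false

universe u

open Polynomial

namespace Groth.Agent.ConormalDepth

variable {R : Type u} [CommRing R] (I : Ideal R)


/-- the monomial `c tⁱ` -/
noncomputable def mono (i : ℕ) (c : R) (hc : c ∈ I ^ i) : ↥(reesAlgebra I) :=
  ⟨monomial i c, reesAlgebra.monomial_mem.2 hc⟩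

theorem coeff_mem_of_mem_map {f : ↥(reesAlgebra I)} (hf : f ∈ (Ideal.map (algebraMap R ↥(reesAlgebra I)) I)) (i : ℕ) : (f : R[X]).coeff i ∈ I ^ (i + 1) := by
  have hf' : f ∈ (I • ⊤ : Submodule R ↥(reesAlgebra I)) := by rw [Ideal.smul_top_eq_map]; exact hf
  refine Submodule.smul_induction_on hf' (fun c hc g _ => ?_) fun a b ha hb => ?_
  · change (c • (g : R[X])).coeff i ∈ _
    rw [coeff_smul, pow_succ']
    exact Ideal.mul_mem_mul hc ((mem_reesAlgebra_iff I _).1 g.2 i)
  · change ((a : R[X]) + (b : R[X])).coeff i ∈ _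
    rw [coeff_add]
    exact add_mem ha hb

/-- the constant coefficient -/
noncomputable def hom0 : ↥(reesAlgebra I) →+* R := constantCoeff.comp (reesAlgebra I).val.toRingHom

theorem hom0_algebraMap (r : R) : hom0 I (algebraMap R ↥(reesAlgebra I) r) = r := coeff_C_zero

/-- `X ↦ X Y` -/
noncomputable def twist : R[X] →+* R[X][X] := eval₂RingHom (C.comp C) (C X * X)

theorem twist_monomial (n : ℕ) (c : R) : twist (monomial n c) = monomial n (monomial n c) := by
  simp only [twist, coe_eval₂RingHom, eval₂_monomial, RingHom.comp_apply, mul_pow, ← C_pow]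
  rw [← mul_assoc, ← C_mul, C_mul_X_pow_eq_monomial, C_mul_X_pow_eq_monomial]

theorem coeff_twist (f : R[X]) (i : ℕ) : (twist f).coeff i = monomial i (f.coeff i) := by
  induction f using Polynomial.induction_on' with
  | add p q hp hq => simp [hp, hq]
  | monomial n c =>
    rw [twist_monomial, coeff_monomial, coeff_monomial]
    split_ifs with h
    · rw [h]
    · rw [map_zero]

theorem eval_one_twist (f : R[X]) : (twist f).eval 1 = f := by
  induction f using Polynomial.induction_on' with
  | add p q hp hq => simp [hp, hq]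
  | monomial n c => rw [twist_monomial, eval_monomial, one_pow, mul_one]

theorem exists_graded : ∃ φ : ↥(reesAlgebra I) →+* Polynomial ↥(reesAlgebra I),
    ∀ f : ↥(reesAlgebra I), (φ f).map (reesAlgebra I).val.toRingHom = twist (f : R[X]) := by
  let ι : ↥(reesAlgebra I) →+* R[X] := (reesAlgebra I).val.toRingHom
  have hι : Function.Injective (mapRingHom ι) := map_injective ι Subtype.val_injective
  have hmem : ∀ f : ↥(reesAlgebra I), twist (f : R[X]) ∈ (mapRingHom ι).rangeS := fun f => by
    rw [RingHom.mem_rangeS, coe_mapRingHom]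
    refine (mem_lifts _).1 ((lifts_iff_coeff_lifts _).2 fun i => ?_)
    rw [coeff_twist]
    exact ⟨mono I i _ ((mem_reesAlgebra_iff I _).1 f.2 i), rfl⟩
  let e := RingEquiv.ofBijective (mapRingHom ι).rangeSRestrict
    ⟨fun a b h => hι (congrArg Subtype.val h), (mapRingHom ι).rangeSRestrict_surjective⟩
  refine ⟨e.symm.toRingHom.comp ((twist.comp ι).codRestrict _ hmem), fun f => ?_⟩
  exact congrArg Subtype.val (e.apply_symm_apply ⟨_, hmem f⟩)

/-- every prime contains a prime over the same prime of `R` inside the vertex -/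
theorem exists_core [IsLocalRing R] (P : Ideal ↥(reesAlgebra I)) [P.IsPrime] :
    ∃ P₁ : Ideal ↥(reesAlgebra I), P₁.IsPrime ∧ P₁ ≤ P ∧ P₁.comap (algebraMap R ↥(reesAlgebra I)) = P.comap (algebraMap R ↥(reesAlgebra I)) ∧
      P₁ ≤ RingHom.ker ((IsLocalRing.residue R).comp (hom0 I)) := by
  obtain ⟨φ, hφ⟩ := exists_graded I
  let Φ : ↥(reesAlgebra I) →+* Polynomial (↥(reesAlgebra I) ⧸ P) := (mapRingHom (Ideal.Quotient.mk P)).comp φ
  have hC : ∀ r : R, φ (algebraMap R ↥(reesAlgebra I) r) = C (algebraMap R ↥(reesAlgebra I) r) := fun r => by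
    apply map_injective (reesAlgebra I).val.toRingHom Subtype.val_injective
    rw [hφ, map_C]
    exact eval₂_C (C.comp C) _
  refine ⟨RingHom.ker Φ, RingHom.ker_isPrime Φ, fun f hf => ?_, Ideal.ext fun r => ?_, fun f hf => ?_⟩
  · have h1 : (φ f).eval 1 = f := by
      apply Subtype.ext
      have := eval_one_twist (f : R[X])
      rw [← hφ f, eval_one_map] at this
      exact this
    have h2 : ((φ f).map (Ideal.Quotient.mk P)).eval 1 = 0 := by
      rw [show (φ f).map (Ideal.Quotient.mk P) = 0 from hf, eval_zero]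
    rw [eval_one_map, h1] at h2
    exact Ideal.Quotient.eq_zero_iff_mem.1 h2
  · rw [Ideal.mem_comap, Ideal.mem_comap, RingHom.mem_ker]
    change (φ _).map _ = 0 ↔ _
    rw [hC, map_C, C_eq_zero, Ideal.Quotient.eq_zero_iff_mem]
  · have h0 : (φ f).coeff 0 = algebraMap R ↥(reesAlgebra I) (hom0 I f) := by
      apply Subtype.ext
      have := coeff_twist (f : R[X]) 0
      rw [← hφ f, coeff_map, monomial_zero_left] at this
      exact this
    have h1 : algebraMap R ↥(reesAlgebra I) (hom0 I f) ∈ P := by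
      rw [← h0, ← Ideal.Quotient.eq_zero_iff_mem, ← coeff_map, show (φ f).map (Ideal.Quotient.mk P) = 0 from hf,
        coeff_zero]
    rw [RingHom.mem_ker, RingHom.comp_apply, IsLocalRing.residue_eq_zero_iff]
    exact IsLocalRing.le_maximalIdeal (Ideal.comap_isPrime (algebraMap R ↥(reesAlgebra I)) P).ne_top h1

theorem mono_mem_pow {P : Ideal ↥(reesAlgebra I)} (h : ∀ a (ha : a ∈ I ^ 1), mono I 1 a ha ∈ P) :
    ∀ (i : ℕ) (c : R) (hc : c ∈ I ^ i), mono I i c hc ∈ P ^ i
  | 0, c, hc => by simp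
  | i + 1, c, hc => by
    have hc' : c ∈ I ^ i * I := by rwa [← pow_succ]
    induction hc' using Submodule.mul_induction_on' with
    | mem_mul_mem y hy z hz =>
      have : mono I (i + 1) (y * z) hc = mono I i y hy * mono I 1 z (by rwa [pow_one]) :=
        Subtype.ext (monomial_mul_monomial i 1 y z).symm
      rw [this, pow_succ]
      exact Ideal.mul_mem_mul (mono_mem_pow h i y hy) (h z _)
    | add y hy z hz ihy ihz =>
      have : mono I (i + 1) (y + z) hc = mono I (i + 1) y (by rwa [pow_succ]) + mono I (i + 1) z (by rwa [pow_succ]) :=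
        Subtype.ext (map_add _ y z)
      rw [this]
      exact add_mem (ihy _) (ihz _)

variable [IsDomain R] [IsNoetherianRing R]

theorem one_le_trdeg {a : R} (ha : a ∈ I) (ha0 : a ≠ 0) : 1 ≤ Algebra.trdeg R ↥(reesAlgebra I) := by
  have ht : Transcendental R (C a * X : R[X]) := by
    have := (Polynomial.transcendental_X R).aeval (C a * X) (by rw [natDegree_C_mul_X a ha0]; exact one_ne_zero)
    rw [aeval_X_left_apply] at this
    exact this (mem_nonZeroDivisors_of_ne_zero (by simpa [leadingCoeff_eq_zero] using ha0))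
  have ht' : Transcendental R (mono I 1 a (by rwa [pow_one])) := fun h =>
    ht (by
      have := h.algHom (reesAlgebra I).val
      rwa [show (reesAlgebra I).val (mono I 1 a (by rwa [pow_one])) = C a * X by
        rw [C_mul_X_eq_monomial]; rfl] at this)
  have := AlgebraicIndependent.cardinalMk_le_trdeg
    ((algebraicIndependent_unique_type_iff (ι := PUnit.{u + 1}) (x := fun _ => mono I 1 a (by rwa [pow_one]))).2 ht')
  simpa using this

theorem height_minimal_le (P₀ : Ideal ↥(reesAlgebra I)) (hP₀ : P₀ ∈ ((Ideal.map (algebraMap R ↥(reesAlgebra I)) I)).minimalPrimes) :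
    (P₀.height : Cardinal.{u}) ≤ Algebra.trdeg R ↥(reesAlgebra I) := by
  classical
  have := hP₀.1.1
  by_cases hA : ∀ a (ha : a ∈ I ^ 1), mono I 1 a ha ∈ P₀
  · suffices hI : I = ⊥ by
      have hbot : P₀ = ⊥ := by
        refine le_antisymm (hP₀.2 ⟨Ideal.isPrime_bot, ?_⟩ bot_le) bot_le
        rw [hI, Ideal.map_bot]
      simp [hbot]
    have hfin := ((Ideal.map (algebraMap R ↥(reesAlgebra I)) I)).finite_minimalPrimes_of_isNoetherianRing
    obtain ⟨s, hs, hs0⟩ := SetLike.not_le_iff_exists.1 (show ¬ (hfin.toFinset.erase P₀).inf id ≤ P₀ by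
      intro h
      obtain ⟨Q, hQ, hQle⟩ := (Ideal.IsPrime.inf_le' (hP₀.1.1)).1 h
      obtain ⟨hne, hQm⟩ := Finset.mem_erase.1 hQ
      have hQm' := hfin.mem_toFinset.1 hQm
      exact hne (le_antisymm hQle (hP₀.2 hQm'.1 hQle)))
    have hle : Ideal.span {s} * P₀ ≤ ((Ideal.map (algebraMap R ↥(reesAlgebra I)) I)).radical := by
      rw [← Ideal.sInf_minimalPrimes]
      refine le_sInf fun Q hQ => ?_
      by_cases hQe : Q = P₀
      · rw [hQe]; exact Ideal.mul_le.2 fun x _ y hy => Ideal.mul_mem_left _ x hy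
      · refine (Ideal.mul_le.2 fun x hx y _ => Ideal.mul_mem_right y (Ideal.span {s}) hx).trans ((Ideal.span_singleton_le_iff_mem _).2 ?_)
        exact (Submodule.mem_finsetInf.1 hs) Q (Finset.mem_erase.2 ⟨hQe, hfin.mem_toFinset.2 hQ⟩)
    obtain ⟨N, hN⟩ := Ideal.exists_pow_le_of_le_radical_of_fg hle (IsNoetherian.noetherian _)
    rw [mul_pow] at hN
    let q := P₀.comap (algebraMap R ↥(reesAlgebra I))
    have hq : q.IsPrime := Ideal.comap_isPrime _ _
    have hIq : I ≤ q := Ideal.map_le_iff_le_comap.1 hP₀.1.2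
    have hu : (hom0 I s) ∉ q := fun hu => hs0 (by
      have hsum : s = ∑ i ∈ (s : R[X]).support, mono I i _ ((mem_reesAlgebra_iff I _).1 s.2 i) := by
        apply Subtype.ext
        rw [AddSubmonoidClass.coe_finsetSum]
        exact (s : R[X]).as_sum_support
      rw [hsum]
      refine Ideal.sum_mem _ fun i _ => ?_
      rcases Nat.eq_zero_or_pos i with rfl | hi
      · rw [show mono I 0 ((s : R[X]).coeff 0) ((mem_reesAlgebra_iff I _).1 s.2 0) = algebraMap R _ (hom0 I s) from
          Subtype.ext (show monomial 0 ((s : R[X]).coeff 0) = C (hom0 I s) by rw [monomial_zero_left]; rfl)]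
        exact hu
      · exact Ideal.pow_le_self hi.ne' (mono_mem_pow I hA i _ _))
    have key : ∀ c ∈ I ^ N, (hom0 I s) ^ N * c ∈ I ^ (N + 1) := fun c hc => by
      have h1 := coeff_mem_of_mem_map I (hN (Ideal.mul_mem_mul
        (Ideal.pow_mem_pow (Ideal.mem_span_singleton_self s) N) (mono_mem_pow I hA N c hc))) N
      change (((s ^ N : ↥(reesAlgebra I)) : R[X]) * monomial N c).coeff N ∈ _ at h1
      rw [← C_mul_X_pow_eq_monomial, ← mul_assoc, coeff_mul_X_pow', if_pos le_rfl, Nat.sub_self,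
        coeff_mul_C] at h1
      rwa [show ((s ^ N : ↥(reesAlgebra I)) : R[X]).coeff 0 = hom0 I s ^ N from map_pow (hom0 I) s N] at h1
    let L := I.map (algebraMap R (Localization.AtPrime q))
    have hL : L ^ N ≤ L • L ^ N := by
      rw [smul_eq_mul, ← pow_succ', ← Ideal.map_pow, ← Ideal.map_pow, Ideal.map_le_iff_le_comap]
      intro c hc
      obtain ⟨v, hv⟩ := IsLocalization.map_units (Localization.AtPrime q)
        (⟨hom0 I s ^ N, fun h => hu (hq.mem_of_pow_mem N h)⟩ : q.primeCompl)
      have := Ideal.mem_map_of_mem (algebraMap R (Localization.AtPrime q)) (key c hc)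
      rw [map_mul] at this
      rw [show algebraMap R (Localization.AtPrime q) (hom0 I s ^ N) = (v : Localization.AtPrime q) from hv.symm]
        at this
      exact (Ideal.unit_mul_mem_iff_mem _ v.isUnit).1 this
    have hL0 : L ^ N = ⊥ := Submodule.eq_bot_of_le_smul_of_le_jacobson_bot L (L ^ N)
      (IsNoetherian.noetherian _) hL (((Ideal.map_mono hIq).trans
        (Localization.AtPrime.map_eq_maximalIdeal (I := q)).le).trans (IsLocalRing.maximalIdeal_le_jacobson _))
    rw [← Ideal.map_pow, Ideal.map_eq_bot_iff_of_injective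
      (IsLocalization.injective _ q.primeCompl_le_nonZeroDivisors)] at hL0
    exact pow_eq_zero_iff'.1 hL0 |>.1
  · push Not at hA
    obtain ⟨a, ha, hat⟩ := hA
    have haI : a ∈ I := by rwa [pow_one] at ha
    have ha0 : a ≠ 0 := by
      rintro rfl
      exact hat (by rw [show mono I 1 (0 : R) ha = 0 from Subtype.ext (map_zero _)]; exact zero_mem _)
    have haP : Ideal.span {algebraMap R ↥(reesAlgebra I) a} ≤ P₀ :=
      (Ideal.span_singleton_le_iff_mem _).2 (hP₀.1.2 (Ideal.mem_map_of_mem _ haI))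
    have hmin : P₀ ∈ (Ideal.span {algebraMap R ↥(reesAlgebra I) a}).minimalPrimes := by
      refine ⟨⟨hP₀.1.1, haP⟩, fun P' hP' hle => hP₀.2 ⟨hP'.1, ?_⟩ hle⟩
      refine Ideal.map_le_iff_le_comap.2 fun b hb => ?_
      have heq : algebraMap R ↥(reesAlgebra I) b * mono I 1 a ha = algebraMap R ↥(reesAlgebra I) a * mono I 1 b (by rwa [pow_one]) := by
        apply Subtype.ext
        change C b * monomial 1 a = C a * monomial 1 b
        rw [C_mul_monomial, C_mul_monomial, mul_comm]
      have hm : algebraMap R ↥(reesAlgebra I) b * mono I 1 a ha ∈ P' := by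
        rw [heq]
        exact P'.mul_mem_right _ (hP'.2 (Ideal.mem_span_singleton_self _))
      exact (hP'.1.mem_or_mem hm).resolve_right fun h => hat (hle h)
    have h1 := Ideal.height_le_one_of_isPrincipal_of_mem_minimalPrimes _ _ hmin
    refine le_trans ?_ (one_le_trdeg I haI ha0)
    rw [← Cardinal.ofENat_one]
    exact Cardinal.ofENat_le_ofENat.2 h1

section General

/-- the transcendence degree over a local base is at most the dimension of a closed fibre with a rational point -/
theorem trdeg_le_closedFibre (D S : Type u) [CommRing D] [IsDomain D] [IsLocalRing D] [IsNoetherianRing D]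
    (hucD : CAlg.IsUniversallyCatenary D) [CommRing S] [IsDomain S] [Algebra D S] [FaithfulSMul D S]
    [Algebra.FiniteType D S] (M : Ideal S) [M.IsPrime] [M.LiesOver (IsLocalRing.maximalIdeal D)]
    (hrat : ∀ s : S, ∃ x : D, s - algebraMap D S x ∈ M) :
    ∃ T : ℕ, Algebra.trdeg D S = T ∧
      ((T : ℕ∞) : WithBot ℕ∞) ≤ ringKrullDim (S ⧸ (IsLocalRing.maximalIdeal D).map (algebraMap D S)) := by
  have : IsNoetherianRing S := Algebra.FiniteType.isNoetherianRing D S
  have : Algebra.IsAlgebraic (D ⧸ IsLocalRing.maximalIdeal D) (S ⧸ M) := ⟨fun x => by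
    obtain ⟨s, rfl⟩ := Ideal.Quotient.mk_surjective x
    obtain ⟨x, hx⟩ := hrat s
    rw [(Ideal.Quotient.eq).2 hx]
    exact isAlgebraic_algebraMap (Ideal.Quotient.mk (IsLocalRing.maximalIdeal D) x)⟩
  have hdim := Groth.Agent.S0555.result D hucD S (IsLocalRing.maximalIdeal D) M
  rw [trdeg_eq_zero (R := D ⧸ IsLocalRing.maximalIdeal D) (A := S ⧸ M), add_zero] at hdim
  obtain ⟨hD, hhD⟩ := CycLib.exists_nat_height (IsLocalRing.maximalIdeal D)
  obtain ⟨hS, hhS⟩ := CycLib.exists_nat_height M
  rw [hhD, hhS] at hdim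
  simp only [Cardinal.ofENat_nat] at hdim
  obtain ⟨i, T, hi, hT, hsum⟩ := CycLib.trdeg_lt_aleph0_of_add hdim.symm
  obtain rfl : i = hD := (Nat.cast_inj.1 hi).symm
  refine ⟨T, hT, ?_⟩
  have h1 := Ideal.height_le_height_add_of_liesOver (IsLocalRing.maximalIdeal D) M
  let mS := (IsLocalRing.maximalIdeal D).map (algebraMap D S)
  have hne : M.map (Ideal.Quotient.mk mS) ≠ ⊤ := fun h => by
    have h' := congrArg (Ideal.comap (Ideal.Quotient.mk mS)) h
    rw [Ideal.comap_map_of_surjective _ Ideal.Quotient.mk_surjective, ← RingHom.ker_eq_comap_bot,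
      Ideal.mk_ker, Ideal.comap_top,
      sup_eq_left.2 (Ideal.map_le_iff_le_comap.2 (Ideal.LiesOver.over (p := IsLocalRing.maximalIdeal D) (P := M)).le)] at h'
    exact Ideal.IsPrime.ne_top' h'
  refine le_trans ?_ (Ideal.height_le_ringKrullDim_of_ne_top hne)
  rw [hhS, hhD] at h1
  refine WithBot.coe_le_coe.2 ?_
  generalize (M.map (Ideal.Quotient.mk mS)).height = z at h1 ⊢
  rcases eq_or_ne z ⊤ with rfl | hz
  · exact le_top
  · obtain ⟨z, rfl⟩ := ENat.ne_top_iff_exists.1 hz
    norm_cast at h1 ⊢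
    omega

/-- heights in a quotient of a finite type domain over a universally catenary domain -/
theorem le_height_quotient {R A G : Type u} [CommRing R] [IsDomain R] [CommRing A] [IsDomain A] [Algebra R A]
    [FaithfulSMul R A] [Algebra.FiniteType R A] [CommRing G] (huc : CAlg.IsUniversallyCatenary R)
    (J : Ideal A) (mk : A →+* G) (hmk : Function.Surjective mk) (hkermk : RingHom.ker mk = J)
    (h0 : ∀ P₀ ∈ J.minimalPrimes, (P₀.height : Cardinal.{u}) ≤ Algebra.trdeg R A)
    (p : Ideal R) [p.IsPrime] (Q : Ideal G) [Q.IsPrime]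
    (hQp : (Q.comap mk).comap (algebraMap R A) = p) (d ℓ : ℕ)
    (htr : ∀ (P : Ideal A) [P.IsPrime] [P.LiesOver p], Algebra.trdeg (R ⧸ p) (A ⧸ P) ≤ ℓ)
    (hdl : ((d + ℓ : ℕ) : ℕ∞) ≤ p.height) : (d : ℕ∞) ≤ Q.height := by
  have := huc.1
  have : IsNoetherianRing A := Algebra.FiniteType.isNoetherianRing R A
  let P := Q.comap mk
  have : P.IsPrime := Ideal.comap_isPrime _ _
  have : P.LiesOver p := ⟨hQp.symm⟩
  have hdimP := Groth.Agent.S0555.result R huc A p P
  obtain ⟨hp, hhp⟩ := CycLib.exists_nat_height p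
  obtain ⟨hP, hhP⟩ := CycLib.exists_nat_height P
  have ht' := htr P
  obtain ⟨t, ht⟩ := Cardinal.lt_aleph0.1 (lt_of_le_of_lt ht' Cardinal.natCast_lt_aleph0)
  rw [ht, Nat.cast_le] at ht'
  rw [hhp, Nat.cast_le] at hdl
  rw [hhp, hhP, ht] at hdimP
  simp only [Cardinal.ofENat_nat, ← Nat.cast_add] at hdimP
  obtain ⟨i, T, hi, hT, hsum⟩ := CycLib.trdeg_lt_aleph0_of_add hdimP.symm
  obtain rfl : i = hp := (Nat.cast_inj.1 hi).symm
  obtain ⟨P₀, hP₀, hle⟩ := Ideal.exists_minimalPrimes_le (show J ≤ P from fun x hx => by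
    change mk x ∈ Q
    rw [show mk x = 0 from RingHom.mem_ker.1 (hkermk.symm ▸ hx)]
    exact zero_mem _)
  have := hP₀.1.1
  have hP₀T := h0 P₀ hP₀
  obtain ⟨h₀, hh₀⟩ := CycLib.exists_nat_height P₀
  rw [hh₀, hT, Cardinal.ofENat_nat, Nat.cast_le] at hP₀T
  let q := P.map (Ideal.Quotient.mk P₀)
  have hker : RingHom.ker (Ideal.Quotient.mk P₀) ≤ P := by rw [Ideal.mk_ker]; exact hle
  have : q.IsPrime := Ideal.map_isPrime_of_surjective Ideal.Quotient.mk_surjective hker
  have hqP : q.comap (Ideal.Quotient.mk P₀) = P := by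
    rw [Ideal.comap_map_of_surjective _ Ideal.Quotient.mk_surjective, ← RingHom.ker_eq_comap_bot,
      sup_eq_left.2 hker]
  have hcat := (huc.2 A inferInstance).2
  have heq := (CycLib.height_comap_surjective (Ideal.Quotient.mk P₀) Ideal.Quotient.mk_surjective q).2
    fun s s' h1 h2 _ h4 h5 => hcat s s' h1 h2 h4 h5
  rw [hqP, Ideal.mk_ker, hhP, hh₀] at heq
  have hqQ : q.height ≤ Q.height := by
    have hkP₀ : RingHom.ker mk ≤ P₀ := by rw [hkermk]; exact hP₀.1.2
    let f : G →+* A ⧸ P₀ :=
      (Ideal.Quotient.factor hkP₀).comp (RingHom.quotientKerEquivOfSurjective hmk).symm.toRingHom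
    have hfmk : ∀ a, f (mk a) = Ideal.Quotient.mk P₀ a := fun a => by
      have h := (RingHom.quotientKerEquivOfSurjective hmk).symm_apply_apply (Ideal.Quotient.mk _ a)
      exact congrArg (Ideal.Quotient.factor hkP₀) h
    have hf : Function.Surjective f := fun y => by
      obtain ⟨a, rfl⟩ := Ideal.Quotient.mk_surjective y
      exact ⟨mk a, hfmk a⟩
    have hQq : q.comap f = Q := by
      ext x
      obtain ⟨a, rfl⟩ := hmk x
      rw [Ideal.mem_comap, hfmk, ← Ideal.mem_comap, hqP]
      rfl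
    have hmono : StrictMono (PrimeSpectrum.comap f) :=
      (show Monotone (PrimeSpectrum.comap f) from fun a b h => Ideal.comap_mono h).strictMono_of_injective
        (PrimeSpectrum.comap_injective_of_surjective f hf)
    have := Order.height_le_height_apply_of_strictMono _ hmono (⟨q, ‹_›⟩ : PrimeSpectrum (A ⧸ P₀))
    rw [← PrimeSpectrum.height_eq_orderHeight, ← PrimeSpectrum.height_eq_orderHeight] at this
    calc q.height ≤ (q.comap f).height := this
      _ = Q.height := by rw [hQq]
  refine le_trans ?_ hqQ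
  generalize q.height = z at heq ⊢
  rcases eq_or_ne z ⊤ with rfl | hz
  · exact le_top
  · obtain ⟨z, rfl⟩ := ENat.ne_top_iff_exists.1 hz
    norm_cast at heq ⊢
    omega

theorem ringKrullDim_quotient_le {A B : Type u} [CommRing A] [CommRing B] (ρ : A →+* B) (hρ : Function.Surjective ρ)
    (a : Ideal A) (b : Ideal B) (h : a ≤ b.comap ρ) : ringKrullDim (B ⧸ b) ≤ ringKrullDim (A ⧸ a) :=
  ringKrullDim_le_of_surjective (Ideal.quotientMap b ρ h) (Ideal.quotientMap_surjective hρ)

end General

variable [IsLocalRing R] (huc : CAlg.IsUniversallyCatenary R)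

omit [IsDomain R] [IsNoetherianRing R] [IsLocalRing R] in
include huc in
theorem universallyCatenary_quotient (p : Ideal R) : CAlg.IsUniversallyCatenary (R ⧸ p) := by
  have := huc.1
  refine ⟨inferInstance, fun S _ _ _ => ?_⟩
  let _ := ((algebraMap (R ⧸ p) S).comp (Ideal.Quotient.mk p)).toAlgebra
  have : IsScalarTower R (R ⧸ p) S := IsScalarTower.of_algebraMap_eq' rfl
  exact huc.2 S (Algebra.FiniteType.trans (S := R ⧸ p) inferInstance inferInstance)

set_option maxHeartbeats 1000000 in
include huc in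
/-- the transcendence degree of a fibre is at most the analytic spread -/
theorem trdeg_fibre_le (P : Ideal ↥(reesAlgebra I)) [P.IsPrime] (p : Ideal R) [p.IsPrime] [P.LiesOver p] :
    ∃ t : ℕ, Algebra.trdeg (R ⧸ p) (↥(reesAlgebra I) ⧸ P) ≤ t ∧ ((t : ℕ∞) : WithBot ℕ∞) ≤
      ringKrullDim (↥(reesAlgebra I) ⧸ Ideal.map (algebraMap R ↥(reesAlgebra I)) (IsLocalRing.maximalIdeal R)) := by
  obtain ⟨P₁, hP₁, hle, hcom, hM⟩ := exists_core I P
  have : P₁.LiesOver p := ⟨by rw [Ideal.under_def, hcom, ← Ideal.under_def, ← Ideal.LiesOver.over (p := p) (P := P)]⟩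
  let D := R ⧸ p
  let S := ↥(reesAlgebra I) ⧸ P₁
  have hsurj : Algebra.trdeg D (↥(reesAlgebra I) ⧸ P) ≤ Algebra.trdeg D S := by
    let f : S →ₐ[D] ↥(reesAlgebra I) ⧸ P :=
      { Ideal.Quotient.factor hle with
        commutes' := fun x => by
          obtain ⟨r, rfl⟩ := Ideal.Quotient.mk_surjective x
          rfl }
    exact trdeg_le_of_surjective f (Ideal.Quotient.factor_surjective hle)
  have : IsLocalRing D := IsLocalRing.of_surjective' (Ideal.Quotient.mk p) Ideal.Quotient.mk_surjective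
  have : Algebra.FiniteType D S := Algebra.FiniteType.of_restrictScalars_finiteType R D S
  have : FaithfulSMul D S := (faithfulSMul_iff_algebraMap_injective _ _).2
    ((injective_iff_map_eq_zero _).2 fun x hx => by
      obtain ⟨r, rfl⟩ := Ideal.Quotient.mk_surjective x
      have hr : algebraMap R ↥(reesAlgebra I) r ∈ P₁ := Ideal.Quotient.eq_zero_iff_mem.1 hx
      exact Ideal.Quotient.eq_zero_iff_mem.2 ((Ideal.LiesOver.over (p := p) (P := P₁)).symm ▸ hr))
  let ε : S →+* IsLocalRing.ResidueField R :=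
    Ideal.Quotient.lift P₁ ((IsLocalRing.residue R).comp (hom0 I)) fun a ha => hM ha
  have hε : ∀ r : R, ε (algebraMap D S (Ideal.Quotient.mk p r)) = IsLocalRing.residue R r := fun r => by
    change IsLocalRing.residue R (hom0 I (algebraMap R ↥(reesAlgebra I) r)) = _
    rw [hom0_algebraMap]
  let M := RingHom.ker ε
  have : M.IsPrime := RingHom.ker_isPrime ε
  have hMover : M.comap (algebraMap D S) = IsLocalRing.maximalIdeal D := by
    refine IsLocalRing.eq_maximalIdeal ?_
    change ((RingHom.ker ε).comap (algebraMap D S)).IsMaximal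
    rw [RingHom.comap_ker]
    exact RingHom.ker_isMaximal_of_surjective _ fun z => by
      obtain ⟨r, rfl⟩ := IsLocalRing.residue_surjective z
      exact ⟨Ideal.Quotient.mk p r, hε r⟩
  have : M.LiesOver (IsLocalRing.maximalIdeal D) := ⟨hMover.symm⟩
  obtain ⟨T, hT, hTle⟩ := trdeg_le_closedFibre D S (universallyCatenary_quotient huc p) M fun s => by
    obtain ⟨r, hr⟩ := IsLocalRing.residue_surjective (ε s)
    exact ⟨Ideal.Quotient.mk p r, by rw [RingHom.mem_ker, map_sub, hε, hr, sub_self]⟩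
  refine ⟨T, hsurj.trans hT.le, hTle.trans (ringKrullDim_quotient_le (Ideal.Quotient.mk P₁)
    Ideal.Quotient.mk_surjective _ _ (Ideal.map_le_iff_le_comap.2 fun r hr => ?_))⟩
  refine Ideal.mem_map_of_mem (algebraMap D S) (x := Ideal.Quotient.mk p r) ?_
  rw [← hMover, Ideal.mem_comap, RingHom.mem_ker, hε, IsLocalRing.residue_eq_zero_iff]
  exact hr

set_option maxHeartbeats 1000000 in
include huc in
/-- heights of the primes of `⊕ Iⁿ/Iⁿ⁺¹` over `p` -/
theorem le_height (p : Ideal R) [p.IsPrime] (d : ℕ)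
    (hd : (d : WithBot ℕ∞) + ringKrullDim (↥(reesAlgebra I) ⧸ Ideal.map (algebraMap R ↥(reesAlgebra I)) (IsLocalRing.maximalIdeal R)) ≤
      ((p.height : ℕ∞) : WithBot ℕ∞))
    {G : Type u} [CommRing G] (mk : ↥(reesAlgebra I) →+* G) (hmk : Function.Surjective mk)
    (hkermk : RingHom.ker mk = Ideal.map (algebraMap R ↥(reesAlgebra I)) I)
    (Q : Ideal G) [Q.IsPrime] (hQp : (Q.comap mk).comap (algebraMap R ↥(reesAlgebra I)) = p) :
    (d : ℕ∞) ≤ Q.height := by
  have : FaithfulSMul R ↥(reesAlgebra I) := (faithfulSMul_iff_algebraMap_injective _ _).2 fun a b h => by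
    have := congrArg (hom0 I) h
    rwa [hom0_algebraMap, hom0_algebraMap] at this
  obtain ⟨hp, hhp⟩ := CycLib.exists_nat_height p
  have hℓ : ∀ ℓ : ℕ, (ℓ : WithBot ℕ∞) ≤ ringKrullDim (↥(reesAlgebra I) ⧸ Ideal.map (algebraMap R ↥(reesAlgebra I)) (IsLocalRing.maximalIdeal R)) →
      d + ℓ ≤ hp := fun ℓ hℓ => by
    have := (add_le_add (le_refl (d : WithBot ℕ∞)) hℓ).trans hd
    rw [hhp] at this
    norm_cast at this
  refine le_height_quotient huc _ mk hmk hkermk (height_minimal_le I) p Q hQp d (hp - d) ?_ ?_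
  · intro P _ _
    obtain ⟨T, hT, hT'⟩ := trdeg_fibre_le I huc P p
    have := hℓ T hT'
    exact hT.trans (by exact_mod_cast (show T ≤ hp - d by omega))
  · obtain ⟨T, -, hT'⟩ := (have : (Q.comap mk).LiesOver p := ⟨hQp.symm⟩; trdeg_fibre_le I huc (Q.comap mk) p)
    rw [hhp]
    have := hℓ T hT'
    exact_mod_cast (show d + (hp - d) ≤ hp by omega)

omit [IsDomain R] [IsLocalRing R] in
/-- `ht (p/I) + ht I ≤ ht p` -/
theorem height_map_add_height_le (p : Ideal R) [p.IsPrime] (hp : I ≤ p) :
    (p.map (Ideal.Quotient.mk I)).height + I.height ≤ p.height := by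
  have hker : RingHom.ker (Ideal.Quotient.mk I) ≤ p := by rw [Ideal.mk_ker]; exact hp
  have : (p.map (Ideal.Quotient.mk I)).IsPrime := Ideal.map_isPrime_of_surjective Ideal.Quotient.mk_surjective hker
  obtain ⟨s, hl, hlen⟩ := (p.map (Ideal.Quotient.mk I)).exists_ltSeries_length_eq_height
  let g : PrimeSpectrum (R ⧸ I) → PrimeSpectrum R := PrimeSpectrum.comap (Ideal.Quotient.mk I)
  have hg : StrictMono g := (show Monotone g from fun a b h => Ideal.comap_mono h).strictMono_of_injective
    (PrimeSpectrum.comap_injective_of_surjective _ Ideal.Quotient.mk_surjective)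
  have hh : I ≤ (g s.head).asIdeal := fun x hx => by
    change Ideal.Quotient.mk I x ∈ s.head.asIdeal
    rw [Ideal.Quotient.eq_zero_iff_mem.2 hx]
    exact zero_mem _
  obtain ⟨s₀, hl₀, hlen₀⟩ := (g s.head).asIdeal.exists_ltSeries_length_eq_height
  have hlast : g s.last = ⟨p, inferInstance⟩ := PrimeSpectrum.ext (by
    rw [hl]
    exact (Ideal.comap_map_of_surjective _ Ideal.Quotient.mk_surjective p).trans
      (by rw [← RingHom.ker_eq_comap_bot, sup_eq_left.2 hker]))
  have hcon : s₀.last = (s.map g hg).head := by rw [hl₀, LTSeries.head_map]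
  let t : LTSeries (PrimeSpectrum R) := RelSeries.smash s₀ (s.map g hg) hcon
  have ht : t.last = ⟨p, inferInstance⟩ := by rw [RelSeries.last_smash, LTSeries.last_map, hlast]
  calc (p.map (Ideal.Quotient.mk I)).height + I.height
      ≤ (s.length : ℕ∞) + (g s.head).asIdeal.height := by rw [hlen]; gcongr
    _ = ((t.length : ℕ) : ℕ∞) := by
        rw [← hlen₀, add_comm]
        exact_mod_cast rfl
    _ ≤ p.height := by
        rw [(⟨p, inferInstance⟩ : PrimeSpectrum R).height_eq_orderHeight]
        exact Order.length_le_height ht.le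

end Groth.Agent.ConormalDepth
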